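import Groth.Agent.Vancyc.H692.SignTriv

/-!
# Inertia acting by commuting involutions, `2` invertible (S4001 from S4000)

`f : X ⟶ Spec R` quasi-compact and quasi-separated over a strictly henselian trait in which `2` is
invertible.  If the action of `Gal(Ω/K)` on `H^q(X_Ω, F)` is by commuting involutions, then every
`σ` fixing the square roots of a uniformiser acts trivially.
-/

set_option autoImplicit false
universe u
open CategoryTheory CategoryTheory.Limits AlgebraicGeometry Opposite

namespace Groth.Agent.Vancyc.H692.InvolTriv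

variable (R K Ω : Type u) [CommRing R] [IsDomain R] [IsDiscreteValuationRing R]
  (hR : EtCoh.IsStrictlyHenselianLocalRing R) [Field K] [Algebra R K] [IsFractionRing R K]
  [Field Ω] [Algebra K Ω] [IsSepClosure K Ω] [Algebra R Ω] [IsScalarTower R K Ω]

include hR in
/-- Continuous actions by commuting involutions are trivial on the automorphisms fixing the square
roots of a uniformiser. -/
theorem eq_self_of_involutions {M : Type*} (act : (Ω ≃ₐ[K] Ω) → M → M)
    (hone : ∀ x, act 1 x = x)
    (hmul : ∀ σ τ x, act (σ * τ) x = act σ (act τ x))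
    (hinv : ∀ σ x, act σ (act σ x) = x)
    (hcomm : ∀ σ τ x, act σ (act τ x) = act τ (act σ x))
    (hcont : ∀ x : M, ∃ L : IntermediateField K Ω, FiniteDimensional K L ∧
      ∀ σ ∈ L.fixingSubgroup, act σ x = x)
    (h2 : IsUnit (2 : R)) {t : R} (ht : Irreducible t) (σ : Ω ≃ₐ[K] Ω)
    (hσ : VanCyc.quadChar (algebraMap R K t) σ = 1) (x : M) : act σ x = x := by
  have h2K : (2 : K) ≠ 0 := by
    have h3 := (h2.map (algebraMap R K)).ne_zero
    rwa [map_ofNat] at h3
  let S : Subgroup (Ω ≃ₐ[K] Ω) :=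
    { carrier := {g | act g x = x}
      mul_mem' := by
        intro a b ha hb
        change act (a * b) x = x
        rw [hmul, hb, ha]
      one_mem' := hone x
      inv_mem' := by
        intro a ha
        change act a⁻¹ x = x
        have h1 : act (a⁻¹ * a) x = x := by rw [inv_mul_cancel, hone]
        rw [hmul] at h1
        rwa [show act a x = x from ha] at h1 }
  have hSmem : ∀ g, g ∈ S ↔ act g x = x := fun g => Iff.rfl
  have hcancel : ∀ g y, act g (act g⁻¹ y) = y := by
    intro g y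
    rw [← hmul, mul_inv_cancel, hone]
  have hn : S.Normal := ⟨by
    intro s hs g
    rw [hSmem, hmul, hmul, hcomm s g⁻¹ x, (hSmem s).1 hs, hcancel]⟩
  let _ : CommGroup ((Ω ≃ₐ[K] Ω) ⧸ S) :=
    { (inferInstance : Group ((Ω ≃ₐ[K] Ω) ⧸ S)) with
      mul_comm := by
        rintro ⟨a⟩ ⟨b⟩
        refine QuotientGroup.eq.2 ?_
        rw [hSmem]
        rw [mul_inv_rev, hmul, hmul, hmul, hcomm b a x, hcomm a⁻¹ a, hcancel, hcomm b⁻¹ b, hcancel] }
  obtain ⟨L, hL, hfix⟩ := hcont x
  have h := Groth.Agent.Vancyc.H684.Kummer.apply_eq_one R K Ω hR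
    (A := (Ω ≃ₐ[K] Ω) ⧸ S) 2 (by exact_mod_cast h2) ht (by
      rintro ⟨a⟩
      rw [pow_two]
      refine (QuotientGroup.eq_one_iff (N := S) (a * a)).2 ?_
      rw [hSmem, hmul, hinv]) (QuotientGroup.mk' S) L (fun g hg =>
      (QuotientGroup.eq_one_iff (N := S) g).2 (hfix g hg)) σ
      (QuadMono.fixesRoot_two K Ω _ h2K σ hσ)
  exact (QuotientGroup.eq_one_iff (N := S) σ).1 h

include hR in
/-- If inertia acts on `H^q(X_Ω, F)` by commuting involutions and `2` is invertible then every `σ`
fixing the square roots of a uniformiser acts trivially. -/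
theorem galH_eq_id {X : Scheme.{u}} (f : X ⟶ Spec (CommRingCat.of R)) [QuasiCompact f]
    [QuasiSeparated f] (F : EtCoh.Ab X) (q : ℕ)
    (h : ∀ (σ τ : Ω ≃ₐ[K] Ω) [PreservesFiniteLimits (EtCoh.pull (VanCyc.galGeom f σ))]
      [PreservesFiniteLimits (EtCoh.pull (VanCyc.galGeom f τ))],
      (VanCyc.galH f σ F q).comp (VanCyc.galH f σ F q) = AddMonoidHom.id _ ∧
      (VanCyc.galH f σ F q).comp (VanCyc.galH f τ F q) =
        (VanCyc.galH f τ F q).comp (VanCyc.galH f σ F q))
    (h2 : IsUnit (2 : R)) (t : R) (ht : Irreducible t) (σ : Ω ≃ₐ[K] Ω)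
    [PreservesFiniteLimits (EtCoh.pull (VanCyc.galGeom f σ))]
    (hσ : VanCyc.quadChar (algebraMap R K t) σ = 1) :
    VanCyc.galH f σ F q = AddMonoidHom.id _ := by
  have hpf : ∀ τ : Ω ≃ₐ[K] Ω, PreservesFiniteLimits (EtCoh.pull (VanCyc.galGeom f τ)) :=
    fun τ => Groth.Agent.S0101.result _
  ext x
  have halg : Algebra.IsAlgebraic K Ω := IsSepClosure.separable.isAlgebraic
  refine eq_self_of_involutions R K Ω hR (fun σ x => VanCyc.galH f σ F q x) ?_ ?_ ?_ ?_ ?_ h2 ht σ
    hσ x
  · intro y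
    change VanCyc.galH f 1 F q y = y
    rw [Groth.Agent.Vancyc.H684.GalCont.galH_one]
    rfl
  · intro σ τ x
    exact Groth.Agent.Vancyc.H684.GalCont.galH_mul f σ τ F q x
  · intro σ x
    exact DFunLike.congr_fun (h σ σ).1 x
  · intro σ τ x
    exact DFunLike.congr_fun (h σ τ).2 x
  · intro y
    obtain ⟨L, hL, h⟩ := Groth.Agent.Vancyc.H684.GalCont.exists_finite_fix (K := K) (Ω := Ω) f F q y
    exact ⟨L, hL, fun s hs => h s hs⟩

end Groth.Agent.Vancyc.H692.InvolTriv
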