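import Groth.Agent.Vancyc.H692.PunctStalk

/-!
# Constant coefficients: `H^n(X - x₀, M) = H^n(punctured henselization, M)`
-/

set_option autoImplicit false
universe u
open CategoryTheory CategoryTheory.Limits AlgebraicGeometry Opposite

namespace Groth.Agent.Vancyc.H692.PunctConst

open Groth.Agent.Etcore.HpullCalc Groth.Agent.Etcore.HpVia

variable {X : Scheme.{u}} {k : Type u} [Field k] [IsSepClosed k]
  (g0 : Spec (CommRingCat.of k) ⟶ X) [IsClosedImmersion g0]
  (x : X) (hx : g0 (IsLocalRing.closedPoint k) = x)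
  (R : Type u) [CommRing R] [IsLocalRing R]
  [Algebra (X.presheaf.stalk x) R] [IsLocalHom (algebraMap (X.presheaf.stalk x) R)]
  [Hensel.IsHenselization (X.presheaf.stalk x) R]

include g0 hx in
theorem isClosed_singleton : IsClosed ({x} : Set X) := by
  have h1 : ({x} : Set X) = Set.range g0 := by
    ext y
    constructor
    · rintro rfl
      exact ⟨_, hx⟩
    · rintro ⟨z, rfl⟩
      rw [Subsingleton.elim z (IsLocalRing.closedPoint k)]
      exact hx
  rw [h1]
  exact g0.isClosedEmbedding.isClosed_range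

include hx in
theorem bijective_Hpull (M : Type) [AddCommGroup M]
    [PreservesFiniteLimits (EtCoh.pull g0)]
    (h0 : ∀ n, Function.Bijective (hp g0 (EtCoh.const X M) n)) (U : X.Opens) [QuasiCompact U.ι]
    (hU : (U : Set X) = {x}ᶜ)
    [PreservesFiniteLimits (EtCoh.pull (Hens2.specOf X x R ∣_ U))] (n : ℕ) :
    Function.Bijective (EtCore.Hpull (Hens2.specOf X x R ∣_ U) (EtCoh.const ↑U M) n) := by
  rw [bijective_Hpull_iff]
  have h1 : Set.range U.ι = {x}ᶜ := by
    rw [Scheme.Opens.range_ι]
    exact hU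
  have h2 := PunctStalk.bijective_hp g0 x hx R (EtCoh.const X M) h0
    (isClosed_singleton g0 x hx) U.ι h1 (Hens2.specOf X x R ∣_ U)
    (Hens2.specOf X x R ⁻¹ᵁ U).ι (isPullback_morphismRestrict _ U) n
  exact bijective_hp_of_iso _ (EtCore.pullConst U.ι M) h2

end Groth.Agent.Vancyc.H692.PunctConst
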