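import Groth.Agent.Vancyc.H692.QuadMono
import Groth.Agent.Vancyc.H684.GalCont
import Groth.Agent.S0101

/-!
# Inertia acting by signs on a stalk of the nearby cycles, `2` invertible

If the stalk of `Ψ^q_T(F)` at `ξ` is, equivariantly, the cohomology of the geometric generic fibre of
some quasi-compact quasi-separated `g : P ⟶ Spec R` (for instance `P` the strict localization of
`X` at `ξ`), and every `σ` acts on it by `1` or `-1`, then every `σ` fixing the square roots of a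
uniformiser acts trivially.
-/

set_option autoImplicit false
universe u
open CategoryTheory CategoryTheory.Limits AlgebraicGeometry Opposite

namespace Groth.Agent.Vancyc.H692.SignTriv

theorem pfl {X Y : Scheme.{u}} (f : X ⟶ Y) : PreservesFiniteLimits (EtCoh.pull f) :=
  Groth.Agent.S0101.result f

attribute [local instance 3000] pfl

variable (R K Ω : Type u) [CommRing R] [IsDomain R] [IsDiscreteValuationRing R]
  (hR : EtCoh.IsStrictlyHenselianLocalRing R) [Field K] [Algebra R K] [IsFractionRing R K]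
  [Field Ω] [Algebra K Ω] [IsSepClosure K Ω] [Algebra R Ω] [IsScalarTower R K Ω]

include hR in
/-- The statement for the action on the cohomology of the geometric generic fibre. -/
theorem galH_eq_self {P : Scheme.{u}} (g : P ⟶ Spec (CommRingCat.of R)) [QuasiCompact g]
    [QuasiSeparated g] (G : EtCoh.Ab P) (q : ℕ)
    (hsign : ∀ σ : Ω ≃ₐ[K] Ω, ∃ ε : ℤ, (ε = 1 ∨ ε = -1) ∧
      ∀ x, VanCyc.galH g σ G q x = ε • x)
    (h2 : IsUnit (2 : R)) {t : R} (ht : Irreducible t) (σ : Ω ≃ₐ[K] Ω)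
    (hσ : VanCyc.quadChar (algebraMap R K t) σ = 1)
    (x : EtCoh.H (VanCyc.fib R g Ω) ((EtCoh.pull (VanCyc.jA R g Ω)).obj G) q) :
    VanCyc.galH g σ G q x = x := by
  have halg : Algebra.IsAlgebraic K Ω := IsSepClosure.separable.isAlgebraic
  refine QuadMono.eq_self_of_sign R K Ω hR (fun σ x => VanCyc.galH g σ G q x) ?_ hsign ?_ h2 ht σ
    hσ x
  · intro σ τ x
    exact Groth.Agent.Vancyc.H684.GalCont.galH_mul g σ τ G q x
  · intro y
    obtain ⟨L, hL, h⟩ := Groth.Agent.Vancyc.H684.GalCont.exists_finite_fix (K := K) (Ω := Ω) g G q y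
    exact ⟨L, hL, fun s hs => h s hs⟩

include hR in
/-- The statement for the stalks of the nearby cycles. -/
theorem stalk_map_psiGal_eq_id {X : Scheme.{u}} (f : X ⟶ Spec (CommRingCat.of R))
    {Ω' : Type u} [Field Ω'] [IsSepClosed Ω'] (ξ : Spec (CommRingCat.of Ω') ⟶ VanCyc.spFib R f)
    (F : EtCoh.Ab X) (q : ℕ)
    {P : Scheme.{u}} (g : P ⟶ Spec (CommRingCat.of R)) [QuasiCompact g]
    [QuasiSeparated g] (G : EtCoh.Ab P)
    (Φ : (EtCoh.stalk ξ).obj (VanCyc.psiT R Ω f q F) ≃+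
      EtCoh.H (VanCyc.fib R g Ω) ((EtCoh.pull (VanCyc.jA R g Ω)).obj G) q)
    (hΦ : ∀ (σ : Ω ≃ₐ[K] Ω) (a : (EtCoh.stalk ξ).obj (VanCyc.psiT R Ω f q F)),
      Φ ((EtCoh.stalk ξ).map (VanCyc.psiGal f σ q F) a) = VanCyc.galH g σ G q (Φ a))
    (hsign : ∀ σ : Ω ≃ₐ[K] Ω, ∃ ε : ℤ, (ε = 1 ∨ ε = -1) ∧
      (EtCoh.stalk ξ).map (VanCyc.psiGal f σ q F) = ε • 𝟙 _)
    (h2 : IsUnit (2 : R)) {t : R} (ht : Irreducible t) (σ : Ω ≃ₐ[K] Ω)
    (hσ : VanCyc.quadChar (algebraMap R K t) σ = 1) :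
    (EtCoh.stalk ξ).map (VanCyc.psiGal f σ q F) = 𝟙 _ := by
  ext a
  have key : ∀ τ : Ω ≃ₐ[K] Ω, ∃ ε : ℤ, (ε = 1 ∨ ε = -1) ∧
      ∀ x, VanCyc.galH g τ G q x = ε • x := by
    intro τ
    obtain ⟨ε, hε, h⟩ := hsign τ
    refine ⟨ε, hε, fun x => ?_⟩
    obtain ⟨b, rfl⟩ := Φ.surjective x
    rw [← hΦ, h]
    change Φ (ε • b) = _
    rw [map_zsmul]
  have h1 := galH_eq_self R K Ω hR g G q key h2 ht σ hσ (Φ a)
  rw [← hΦ] at h1
  exact Φ.injective h1

end Groth.Agent.Vancyc.H692.SignTriv
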