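import Groth.Agent.Etcore.Loc
import Groth.Agent.Etcore.HpullCalc

/-!
# `Loc.HP = hp`, `Loc.HPV = hpVia`
-/

set_option autoImplicit false
universe u
open CategoryTheory CategoryTheory.Limits CategoryTheory.Abelian AlgebraicGeometry Opposite

namespace Groth.Agent.Vancyc.H692.Bridge

open Groth.Agent.Etcore.EtInst Groth.Agent.Etcore.HpullCalc Groth.Agent.Etcore.Loc
open scoped Groth.Agent.Etcore.EtInst

variable {X Y Z : Scheme.{u}}

theorem HP_eq_hp (f : X ⟶ Y) [PreservesFiniteLimits (EtCoh.pull f)] (G : EtCoh.Ab Y) (n : ℕ)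
    (x : HH Y G n) : @Eq (HH X ((EtCoh.pull f).obj G) n) (HP f G n x) (hp f G n x) := by
  rw [hp_apply, pullConst_inv]
  rfl

theorem HPV_eq_hpVia (f : X ⟶ Y) (t : Y ⟶ Z) (f₀ : X ⟶ Z) (w : f ≫ t = f₀)
    [PreservesFiniteLimits (EtCoh.pull f)] (G : EtCoh.Ab Z) (n : ℕ)
    (x : HH Y ((EtCoh.pull t).obj G) n) :
    @Eq (HH X ((EtCoh.pull f₀).obj G) n) (HPV f t w G n x) (hpVia f t f₀ w G n x) := by
  rw [hpVia_apply, HHmap_apply, ← HP_eq_hp, ← theta_hom_app]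
  rfl

end Groth.Agent.Vancyc.H692.Bridge
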