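import Groth.Agent.Etcore.LocMap

/-!
# The localization isomorphism `Ext^n_X(Z_V, F) ≃ H^n(V, F|_V)`, for plain étale morphisms `v : V ⟶ X`

Same as `Etcore.LocMap`, but stated for a morphism of schemes `v : V ⟶ X` instead of an object of
`X.Etale` (so that no `Comma` projections occur in the types: this makes the kernel fast).
-/

set_option autoImplicit false
universe u
open CategoryTheory CategoryTheory.Limits CategoryTheory.Abelian AlgebraicGeometry Opposite

namespace Groth.Agent.Vancyc.H692.LocPlain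

open Groth.Agent.Etcore.LocSec Groth.Agent.Etcore.ZU Groth.Agent.Etcore.ExtAdj
open Groth.Agent.Etcore.Loc Groth.Agent.Sga4h.EtaleRes Groth.Agent.Etcore.LocEt
open Groth.Agent.Etcore.LocMap
open scoped Groth.Agent.Etcore.FastInst

variable {X V V' : Scheme.{u}} (v : V ⟶ X) [AlgebraicGeometry.Etale v]
  (v' : V' ⟶ X) [AlgebraicGeometry.Etale v']

/-- The étale `X`-scheme attached to a morphism. -/
noncomputable def E : X.Etale := Scheme.Etale.mk v

/-- The morphism attached to a morphism over `X`. -/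
noncomputable def Em (g : V' ⟶ V) (w : g ≫ v = v') : E v' ⟶ E v :=
  MorphismProperty.Over.homMk g w

/-- The diagonal. -/
noncomputable def dg : EtCoh.top V ⟶ (EtCoh.bc v).obj (E v) :=
  mkSec v (E v) (𝟙 V) (Category.id_comp v)

theorem isIso_of_eq {A : Scheme.{u}} {f : A ⟶ A} (h : f = 𝟙 A) : IsIso f := h ▸ inferInstance

instance isIso_adjt_dg : IsIso (adjt v (dg v)) := by
  apply isIso_adjt_of_left
  exact isIso_of_eq (mkSec_left_fst v (E v) (𝟙 V) (Category.id_comp v))

/-- The localization map `Ext^n_X(Z_V, F) → H^n(V, F|_V)`. -/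
noncomputable def lm (F : EtCoh.Ab X) (n : ℕ) :
    Ext (ZE (E v)) F n →+ Ext (EtCoh.const V ℤ) ((EtCoh.pull v).obj F) n :=
  extPull (isGen_one V) v (dg v) (genE (E v)) F n

theorem lm_bijective (F : EtCoh.Ab X) (n : ℕ) : Function.Bijective (lm v F n) :=
  extPull_bijective v (isGen_one V) (isGen_genE (E v)) (dg v) F n

/-- Pulling back a class from `X` to `V`. -/
theorem HP_eq_lm (F : EtCoh.Ab X) (n : ℕ) (x : Ext (EtCoh.const X ℤ) F n) :
    HP v F n x = lm v F n ((Ext.mk₀ (toConst (E v))).comp x (zero_add n)) := by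
  have h := extPull_precomp (isGen_one V) v (isGen_one V)
    (EtCore.bcTopIso v).inv (dg v) (one X) (genE (E v)) (toTop (E v)) (toConst (E v))
    (app_toConst (E v)) (𝟙 _) (𝟙 _) (by rw [app_id, res_id])
    ((EtCore.bcTopIsTerminal v).hom_ext _ _) F n x
  rw [lm, h, Ext.mk₀_id_comp]
  rfl

theorem mkSec_congr {X Y : Scheme.{u}} (f : X ⟶ Y) (V : Y.Etale) {t t' : X ⟶ V.left}
    (h : t ≫ V.hom = f) (h' : t' ≫ V.hom = f) (e : t = t') : mkSec f V t h = mkSec f V t' h' := by
  subst e; rfl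

theorem dg_bc (g : V' ⟶ V) (w : g ≫ v = v') :
    dg v' ≫ (EtCoh.bc v').map (Em v v' g w) = mkSec v' (E v) g w :=
  (mkSec_bc v' (V := E v') (𝟙 V') (Category.id_comp v') (Em v v' g w)
    ((congrArg (fun k => k ≫ v) (Category.id_comp g)).trans w)).trans
    (mkSec_congr v' (E v) _ _ (Category.id_comp g))

omit [AlgebraicGeometry.Etale v'] in
theorem bc_dg (g : V' ⟶ V) (w : g ≫ v = v') :
    (EtCore.bcTopIso g).inv ≫ (EtCoh.bc g).map (dg v) ≫ (kap g v (E v)).hom ≫
      eqToHom (by rw [w]) = mkSec v' (E v) g w :=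
  (bc_comp_eq g v w (E v) (𝟙 V) (Category.id_comp v)
    ((congrArg (fun k => k ≫ v) (Category.comp_id g)).trans w)).trans
    (mkSec_congr v' (E v) _ _ (Category.comp_id g))

/-- Pulling back a class from `V` to `V'`. -/
theorem HPV_lm (g : V' ⟶ V) (w : g ≫ v = v')
    (F : EtCoh.Ab X) (n : ℕ) (y : Ext (ZE (E v)) F n) :
    HPV g v w F n (lm v F n y) =
      lm v' F n ((Ext.mk₀ (zmap (Em v v' g w))).comp y (zero_add n)) := by
  have h := extPull_precomp (isGen_one V') v' (isGen_one V')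
    (mkSec v' (E v) g w) (dg v') (genE (E v)) (genE (E v')) (Em v v' g w) (zmap (Em v v' g w))
    (app_zmap (Em v v' g w)) (𝟙 _) (𝟙 _) (by rw [app_id, res_id])
    (by
      rw [Category.id_comp]
      exact dg_bc v v' g w) F n y
  rw [lm, lm, HPV_extPull, h, Ext.mk₀_id_comp, bc_dg v v' g w]

end Groth.Agent.Vancyc.H692.LocPlain
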