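import Groth.Agent.Vancyc.H692.NisSq
import Groth.Agent.EtpbcB.OshHens
import Groth.Agent.Desc.LQF

/-!
# Étale neighbourhoods which are isomorphisms over a closed point

`x₀` a closed point of `X` with separably closed residue field, `u : U ⟶ X` an open immersion with
range the complement of `x₀`.  Every étale neighbourhood `π : V₀ ⟶ X` of `x₀` contains an open
subscheme `O` with `NisSq.IsIsoOver u (O.ι ≫ π)`.
-/

set_option autoImplicit false
universe u
open CategoryTheory CategoryTheory.Limits AlgebraicGeometry Opposite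

namespace Groth.Agent.Vancyc.H692.NiceNbhd

open Groth.Agent.Etrest.StrictLoc Groth.Agent.Vancyc.H692.NisSq Groth.Agent.Vancyc.H692.LocPlain

/-- Étale schemes have trivial residue field extensions over points with separably closed residue
field. -/
theorem residueFieldMap_surjective {V X : Scheme.{u}} (π : V ⟶ X) [AlgebraicGeometry.Etale π]
    (v : V) [IsSepClosed (X.residueField (π v))] :
    Function.Surjective (π.residueFieldMap v).hom := by
  algebraize [(π.residueFieldMap v).hom]
  have h3 : Algebra.IsSeparable (X.residueField (π v)) (V.residueField v) := inferInstance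
  have h4 := (sepAlg_iff' (i := (π.residueFieldMap v).hom) rfl).2 h3
  exact h4.surjective

/-- Uniqueness of lifts to étale schemes with given image point, over points with separably closed
residue field. -/
theorem lift_unique {V X : Scheme.{u}} (π : V ⟶ X) [AlgebraicGeometry.Etale π]
    (v : V) [IsSepClosed (X.residueField (π v))] {K : Type u} [Field K]
    (a b : Spec (CommRingCat.of K) ⟶ V) (hab : a ≫ π = b ≫ π)
    (ha : a (IsLocalRing.closedPoint K) = v) (hb : b (IsLocalRing.closedPoint K) = v) : a = b := by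
  obtain ⟨i, hi⟩ := exists_residueField_hom a v ha
  obtain ⟨j, hj⟩ := exists_residueField_hom b v hb
  have key : ∀ (i : V.residueField v →+* K) (a : Spec (CommRingCat.of K) ⟶ V),
      Spec.map (CommRingCat.ofHom i) ≫ V.fromSpecResidueField v = a →
      spm (i.comp (π.residueFieldMap v).hom) ≫ X.fromSpecResidueField (π v) = a ≫ π := by
    intro i a hi
    rw [← hi, spm_comp, Category.assoc, Category.assoc]
    exact congrArg (spm i ≫ ·)
      (Scheme.Hom.SpecMap_residueFieldMap_fromSpecResidueField π v)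
  have h1 := key i a hi
  have h2 := key j b hj
  have h3 : i.comp (π.residueFieldMap v).hom = j.comp (π.residueFieldMap v).hom := by
    rw [← spm_inj, ← cancel_mono (X.fromSpecResidueField (π v)), h1, h2, hab]
  have h4 : i = j := by
    ext y
    obtain ⟨x, rfl⟩ := residueFieldMap_surjective π v y
    exact RingHom.congr_fun h3 x
  rw [← hi, ← hj, h4]

theorem comp_eq {V X Z : Scheme.{u}} (π : V ⟶ X) [AlgebraicGeometry.Etale π] (p : Z ⟶ X)
    (a b : Z ⟶ V) (ha : a ≫ π = p) (hb : b ≫ π = p) (x₀ : X) [hs : IsSepClosed (X.residueField x₀)]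
    (huniq : ∀ v w : V, π v = x₀ → π w = x₀ → v = w) {K : Type u} [Field K]
    (q : Spec (CommRingCat.of K) ⟶ Z) (hz : p (q (IsLocalRing.closedPoint K)) = x₀) :
    q ≫ a = q ≫ b := by
  have ha' : π (a (q (IsLocalRing.closedPoint K))) = x₀ := by
    rw [← hz, ← ha]; rfl
  have hb' : π (b (q (IsLocalRing.closedPoint K))) = x₀ := by
    rw [← hz, ← hb]; rfl
  have hab : b (q (IsLocalRing.closedPoint K)) = a (q (IsLocalRing.closedPoint K)) :=
    huniq _ _ hb' ha'
  subst ha'
  refine lift_unique π (a (q (IsLocalRing.closedPoint K))) _ _ ?_ ?_ ?_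
  · rw [Category.assoc, Category.assoc, ha, hb]
  · rfl
  · exact hab

theorem exists_equalizer_of {V Z : Scheme.{u}} (a b : Z ⟶ V) {T : Scheme.{u}} (q : T ⟶ Z)
    (h : q ≫ a = q ≫ b) (t : T) : ∃ z' : ↥(equalizer a b), equalizer.ι a b z' = q t := by
  refine ⟨(equalizer.lift q h) t, ?_⟩
  rw [← Scheme.Hom.comp_apply, equalizer.lift_ι]

/-- Two morphisms over `X` to an étale `X`-scheme with a unique point over `x₀` agree near every point
over `x₀`. -/
theorem exists_equalizer {V X Z : Scheme.{u}} (π : V ⟶ X) [AlgebraicGeometry.Etale π] (p : Z ⟶ X)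
    (a b : Z ⟶ V) (ha : a ≫ π = p) (hb : b ≫ π = p) (x₀ : X) [hs : IsSepClosed (X.residueField x₀)]
    (huniq : ∀ v w : V, π v = x₀ → π w = x₀ → v = w) (z : Z) (hz : p z = x₀) :
    ∃ z' : ↥(equalizer a b), equalizer.ι a b z' = z := by
  have h0 : Z.fromSpecResidueField z (IsLocalRing.closedPoint (Z.residueField z)) = z :=
    Scheme.fromSpecResidueField_apply z _
  obtain ⟨z', hz'⟩ := exists_equalizer_of a b (Z.fromSpecResidueField z)
    (comp_eq π p a b ha hb x₀ huniq (K := Z.residueField z) (Z.fromSpecResidueField z)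
      ((congrArg p h0).trans hz)) (IsLocalRing.closedPoint (Z.residueField z))
  exact ⟨z', hz'.trans h0⟩

/-- An étale morphism with a unique point over `x₀`, a point with separably closed residue field, is
an isomorphism over `x₀`, in the sense of `NisSq.IsIsoOver`. -/
theorem isIsoOver_of_unique {X U V : Scheme.{u}} (i : U ⟶ X) [IsOpenImmersion i] (π : V ⟶ X)
    [AlgebraicGeometry.Etale π] (x₀ : X) [IsSepClosed (X.residueField x₀)]
    (hi : Set.range i = {x₀}ᶜ) (v : V) (hv : π v = x₀) (huniq : ∀ w : V, π w = x₀ → w = v) :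
    IsIsoOver i π where
  surj x hx := by
    have h1 : x = x₀ := by
      by_contra h
      have : x ∈ Set.range i := by rw [hi]; exact h
      exact hx this
    exact ⟨v, hv.trans h1.symm⟩
  loc Z a b z hz := by
    have h1 : Z.hom z = x₀ := by
      by_contra h
      have : Z.hom z ∈ Set.range i := by rw [hi]; exact h
      exact hz this
    have ha : a.left ≫ π = Z.hom := MorphismProperty.Over.w a
    have hb : b.left ≫ π = Z.hom := MorphismProperty.Over.w b
    have hZ : AlgebraicGeometry.Etale Z.hom := Z.prop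
    have h2 : IsOpenImmersion (equalizer.ι a.left b.left) :=
      Groth.Agent.Sga1.EtaleSection.isOpenImmersion_equalizer π a.left b.left
        (ha.trans hb.symm)
    obtain ⟨z', hz'⟩ := exists_equalizer π Z.hom a.left b.left ha hb x₀
      (fun w w' hw hw' => (huniq w hw).trans (huniq w' hw').symm) z h1
    let Z' : X.Etale := Scheme.Etale.mk (equalizer.ι a.left b.left ≫ Z.hom)
    let g : Z' ⟶ Z := MorphismProperty.Over.homMk (equalizer.ι a.left b.left) rfl
    refine ⟨Z', g, z', hz', ?_⟩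
    apply MorphismProperty.Over.Hom.ext
    exact equalizer.condition a.left b.left

section Nbhd

variable {X V₀ : Scheme.{u}} (π : V₀ ⟶ X) [AlgebraicGeometry.Etale π] (x₀ : X)
  (hx₀ : IsClosed ({x₀} : Set X)) (v₀ : V₀) (hv₀ : π v₀ = x₀)

include hx₀ in
theorem isClosed_rest : IsClosed ((π ⁻¹' {x₀}) \ {v₀}) := by
  have h1 : LocallyQuasiFinite π := Groth.Agent.Desc.LQF.of_etale π
  exact isClosed_of_subset_discrete_closed Set.sdiff_subset
    (π.isDiscrete_preimage_singleton x₀) (hx₀.preimage π.continuous)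

/-- The open subset: remove all points over `x₀` other than `v₀`. -/
def O : V₀.Opens := ⟨((π ⁻¹' {x₀}) \ {v₀})ᶜ, (isClosed_rest π x₀ hx₀ v₀).isOpen_compl⟩

theorem mem_O (v : V₀) : v ∈ O π x₀ hx₀ v₀ ↔ (π v = x₀ → v = v₀) := by
  change ¬ (π v = x₀ ∧ ¬ v = v₀) ↔ _
  tauto

theorem mem_O_self : v₀ ∈ O π x₀ hx₀ v₀ := (mem_O π x₀ hx₀ v₀ v₀).2 fun _ => rfl

include hv₀ in
/-- The shrunk étale neighbourhood is an isomorphism over `x₀`. -/
theorem isIsoOver {U : Scheme.{u}} (i : U ⟶ X) [IsOpenImmersion i] (hi : Set.range i = {x₀}ᶜ)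
    [IsSepClosed (X.residueField x₀)] :
    IsIsoOver i ((O π x₀ hx₀ v₀).ι ≫ π) := by
  refine isIsoOver_of_unique i ((O π x₀ hx₀ v₀).ι ≫ π) x₀ hi ⟨v₀, mem_O_self π x₀ hx₀ v₀⟩ hv₀
    fun w hw => ?_
  have h : (O π x₀ hx₀ v₀).ι w = v₀ := (mem_O π x₀ hx₀ v₀ _).1 w.2 hw
  exact (O π x₀ hx₀ v₀).ι.injective h

/-- Maps from local schemes with closed point mapping to `v₀` factor through the shrunk
neighbourhood. -/
theorem exists_lift {T : Type u} [CommRing T] [IsLocalRing T]
    (t : Spec (CommRingCat.of T) ⟶ V₀) (ht : t (IsLocalRing.closedPoint T) = v₀) :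
    ∃ s : Spec (CommRingCat.of T) ⟶ (O π x₀ hx₀ v₀ : Scheme.{u}), s ≫ (O π x₀ hx₀ v₀).ι = t := by
  have hr : Set.range t ⊆ Set.range (O π x₀ hx₀ v₀).ι := by
    rw [Scheme.Opens.range_ι]
    rintro _ ⟨z, rfl⟩
    have h1 : t ⁻¹ᵁ (O π x₀ hx₀ v₀) = ⊤ := by
      have h2 : IsLocalRing.closedPoint T ∈ t ⁻¹ᵁ (O π x₀ hx₀ v₀) := by
        change t (IsLocalRing.closedPoint T) ∈ O π x₀ hx₀ v₀
        rw [ht]
        exact mem_O_self π x₀ hx₀ v₀
      apply TopologicalSpace.Opens.ext
      ext z
      simp only [TopologicalSpace.Opens.coe_top, Set.mem_univ, iff_true]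
      exact (IsLocalRing.specializes_closedPoint (R := T) z).mem_open (t ⁻¹ᵁ (O π x₀ hx₀ v₀)).2 h2
    have h3 : z ∈ t ⁻¹ᵁ (O π x₀ hx₀ v₀) := by rw [h1]; trivial
    exact h3
  exact ⟨IsOpenImmersion.lift (O π x₀ hx₀ v₀).ι t hr, IsOpenImmersion.lift_fac _ _ _⟩

end Nbhd

end Groth.Agent.Vancyc.H692.NiceNbhd
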