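import Groth.Agent.Vancyc.H692.NisLes
import Groth.Agent.Vancyc.H692.Bridge
import Groth.Agent.S0101

/-!
# The Nisnevich Mayer-Vietoris sequence for `hp`, `hpVia`
-/

set_option autoImplicit false
universe u
open CategoryTheory CategoryTheory.Limits AlgebraicGeometry Opposite

namespace Groth.Agent.Vancyc.H692.NisHp

open Groth.Agent.Etcore.EtInst Groth.Agent.Etcore.HpullCalc
open Groth.Agent.Vancyc.H692.NisSq Groth.Agent.Vancyc.H692.Bridge
open scoped Groth.Agent.Etcore.EtInst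

theorem pfl {X Y : Scheme.{u}} (f : X ⟶ Y) : PreservesFiniteLimits (EtCoh.pull f) :=
  Groth.Agent.S0101.result f

attribute [local instance 3000] pfl

variable {X U V W : Scheme.{u}} {u : U ⟶ X} [IsOpenImmersion u] {v : V ⟶ X}
  [AlgebraicGeometry.Etale v] {w : W ⟶ X} [AlgebraicGeometry.Etale w]
  {pV : W ⟶ V} {pU : W ⟶ U} (sq : IsPullback pV pU v u) (hV : pV ≫ v = w)
  (hU : pU ≫ u = w) (h : IsIsoOver u v) (F : EtCoh.Ab X) (n : ℕ)

include sq h in
/-- Exactness in the middle. -/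
theorem exact_mid (a : HH V ((EtCoh.pull v).obj F) n)
    (b : HH U ((EtCoh.pull u).obj F) n)
    (hab : hpVia pV v w hV F n a = hpVia pU u w hU F n b) :
    ∃ e : HH X F n, hp v F n e = a ∧ hp u F n e = b := by
  obtain ⟨e, he1, he2⟩ := NisLes.exact_mid sq hV hU h F n a b
    ((HPV_eq_hpVia pV v w hV F n a).trans (hab.trans (HPV_eq_hpVia pU u w hU F n b).symm))
  exact ⟨e, (HP_eq_hp v F n e).symm.trans he1, (HP_eq_hp u F n e).symm.trans he2⟩

include sq h in
/-- Exactness on the right. -/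
theorem exact_right (c : HH W ((EtCoh.pull w).obj F) n) :
    ∃ d : HH X F (n + 1), hp v F (n + 1) d = 0 ∧
      (d = 0 → ∃ (a : HH V ((EtCoh.pull v).obj F) n)
        (b : HH U ((EtCoh.pull u).obj F) n),
        c = hpVia pV v w hV F n a - hpVia pU u w hU F n b) := by
  obtain ⟨d, hd, hd'⟩ := NisLes.exact_right sq hV hU h F n c
  refine ⟨d, (HP_eq_hp v F (n + 1) d).symm.trans hd, fun h0 => ?_⟩
  obtain ⟨a, b, hab⟩ := hd' h0
  refine ⟨a, b, ?_⟩
  rw [← HPV_eq_hpVia, ← HPV_eq_hpVia]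
  exact hab

end Groth.Agent.Vancyc.H692.NisHp
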