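import Groth.Agent.Vancyc.H692.NisSq

/-!
# The Nisnevich Mayer-Vietoris sequence, for `HP` and `HPV`
-/

set_option autoImplicit false
universe u
open CategoryTheory CategoryTheory.Limits CategoryTheory.Abelian AlgebraicGeometry Opposite

namespace Groth.Agent.Vancyc.H692.NisLes

open Groth.Agent.Etcore.LocSec Groth.Agent.Etcore.ZU Groth.Agent.Etcore.ExtAdj
open Groth.Agent.Etcore.Loc Groth.Agent.Etcore.LocEt Groth.Agent.Etcore.LocMap
open Groth.Agent.Etcore.AbMV Groth.Agent.Vancyc.H692.LocPlain Groth.Agent.Vancyc.H692.NisSq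
open scoped Groth.Agent.Etcore.FastInst

variable {X U V W : Scheme.{u}} {u : U ⟶ X} [IsOpenImmersion u] {v : V ⟶ X}
  [AlgebraicGeometry.Etale v] {w : W ⟶ X} [AlgebraicGeometry.Etale w]
  {pV : W ⟶ V} {pU : W ⟶ U} (sq : IsPullback pV pU v u) (hV : pV ≫ v = w)
  (hU : pU ≫ u = w) (h : IsIsoOver u v) (F : EtCoh.Ab X) (n : ℕ)

include sq h in
/-- Exactness in the middle. -/
theorem exact_mid (a : Ext (EtCoh.const V ℤ) ((EtCoh.pull v).obj F) n)
    (b : Ext (EtCoh.const U ℤ) ((EtCoh.pull u).obj F) n)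
    (hab : HPV pV v hV F n a = HPV pU u hU F n b) :
    ∃ e : Ext (EtCoh.const X ℤ) F n, HP v F n e = a ∧ HP u F n e = b := by
  obtain ⟨a, rfl⟩ := (lm_bijective v F n).2 a
  obtain ⟨b, rfl⟩ := (lm_bijective u F n).2 b
  rw [HPV_lm v w, HPV_lm u w] at hab
  have h1 := (lm_bijective w F n).1 hab
  have h2 : (a, b) ∈ ((mvSq sq hV hU h).beta F n).ker := by
    rw [AddMonoidHom.mem_ker, Sq.beta_apply, sub_eq_zero]
    exact h1
  rw [Sq.beta_ker] at h2
  obtain ⟨e, he⟩ := h2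
  rw [Sq.alpha_apply] at he
  refine ⟨e, ?_, ?_⟩
  · rw [HP_eq_lm]
    exact congrArg (lm v F n) (congrArg Prod.fst he)
  · rw [HP_eq_lm]
    exact congrArg (lm u F n) (congrArg Prod.snd he)

include sq h in
/-- Exactness on the right. -/
theorem exact_right (c : Ext (EtCoh.const W ℤ) ((EtCoh.pull w).obj F) n) :
    ∃ d : Ext (EtCoh.const X ℤ) F (n + 1), HP v F (n + 1) d = 0 ∧
      (d = 0 → ∃ (a : Ext (EtCoh.const V ℤ) ((EtCoh.pull v).obj F) n)
        (b : Ext (EtCoh.const U ℤ) ((EtCoh.pull u).obj F) n),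
        c = HPV pV v hV F n a - HPV pU u hU F n b) := by
  obtain ⟨c, rfl⟩ := (lm_bijective w F n).2 c
  refine ⟨(mvSq sq hV hU h).delta F n c, ?_, fun hd => ?_⟩
  · have h1 : (mvSq sq hV hU h).delta F n c ∈ ((mvSq sq hV hU h).alpha F (n + 1)).ker := by
      rw [Sq.alpha_succ_ker]
      exact ⟨c, rfl⟩
    rw [AddMonoidHom.mem_ker, Sq.alpha_apply] at h1
    rw [HP_eq_lm]
    refine (congrArg (lm v F (n + 1)) (congrArg Prod.fst h1)).trans ?_
    exact map_zero _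
  · have h1 : c ∈ ((mvSq sq hV hU h).delta F n).ker := hd
    rw [Sq.delta_ker] at h1
    obtain ⟨⟨a, b⟩, hab⟩ := h1
    rw [Sq.beta_apply] at hab
    refine ⟨lm v F n a, lm u F n b, ?_⟩
    rw [HPV_lm v w, HPV_lm u w, ← map_sub, ← hab]
    rfl

end Groth.Agent.Vancyc.H692.NisLes
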