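import Groth.Agent.Vancyc.H692.LocPlain
import Groth.Agent.Etcore.AbMV
import Groth.Agent.Etbase.EtSite

/-!
# The Nisnevich Mayer-Vietoris square of free sheaves

`u : U ⟶ X` an open immersion, `v : V ⟶ X` étale, an "isomorphism over `X - U`" (in the form:
surjective onto `X - U`, and any two maps `Z ⟶ V` of étale `X`-schemes agree étale-locally at the
points of `Z` over `X - U`), `W = U ×_X V`.  Then `Z_W ⟶ Z_U ⊕ Z_V ⟶ Z_X` is a Mayer-Vietoris
square.
-/

set_option autoImplicit false
universe u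
open CategoryTheory CategoryTheory.Limits CategoryTheory.Abelian AlgebraicGeometry Opposite

namespace Groth.Agent.Vancyc.H692.NisSq

open Groth.Agent.Etcore.LocSec Groth.Agent.Etcore.ZU Groth.Agent.Etcore.ExtAdj
open Groth.Agent.Etcore.Loc Groth.Agent.Etcore.LocEt Groth.Agent.Etcore.LocMap
open Groth.Agent.Etcore.AbMV Groth.Agent.Vancyc.H692.LocPlain
open scoped Groth.Agent.Etcore.FastInst

variable {X U V W : Scheme.{u}} (u : U ⟶ X) [IsOpenImmersion u] (v : V ⟶ X)
  [AlgebraicGeometry.Etale v] (w : W ⟶ X) [AlgebraicGeometry.Etale w]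

theorem hom_E_ext {Z : X.Etale} (a b : Z ⟶ E u) : a = b := by
  apply MorphismProperty.Over.Hom.ext
  have ha : a.left ≫ u = Z.hom := MorphismProperty.Over.w a
  have hb : b.left ≫ u = Z.hom := MorphismProperty.Over.w b
  exact (cancel_mono u).1 (ha.trans hb.symm)

/-- The étale map `V ⟶ X` is an isomorphism over the complement of `U`, étale-local form. -/
structure IsIsoOver : Prop where
  surj : ∀ x : X, x ∉ Set.range u → ∃ y : V, v y = x
  loc : ∀ (Z : X.Etale) (a b : Z ⟶ E v) (z : Z.left), Z.hom z ∉ Set.range u →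
    ∃ (Z' : X.Etale) (g : Z' ⟶ Z) (z' : Z'.left), g.left z' = z ∧ g ≫ a = g ≫ b

variable {u v w}

section

variable {pV : W ⟶ V} {pU : W ⟶ U} (sq : IsPullback pV pU v u) (hV : pV ≫ v = w)
  (hU : pU ≫ u = w)

include sq in
/-- Maps to the fibre product. -/
theorem exists_hom_W {Z : X.Etale} (a : Z ⟶ E v) (b : Z ⟶ E u) :
    ∃ k : Z ⟶ E w, k ≫ Em v w pV hV = a ∧ k ≫ Em u w pU hU = b := by
  have ha : a.left ≫ v = Z.hom := MorphismProperty.Over.w a
  have hb : b.left ≫ u = Z.hom := MorphismProperty.Over.w b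
  let l : Z.left ⟶ W := sq.lift a.left b.left (ha.trans hb.symm)
  have h1 : l ≫ pV = a.left := sq.lift_fst _ _ _
  have h2 : l ≫ pU = b.left := sq.lift_snd _ _ _
  refine ⟨MorphismProperty.Over.homMk l ?_, ?_, ?_⟩
  · exact (congrArg (fun k => l ≫ k) hU.symm).trans ((Category.assoc _ _ _).symm.trans
      ((congrArg (fun k => k ≫ u) h2).trans hb))
  · apply MorphismProperty.Over.Hom.ext
    exact h1
  · exact hom_E_ext _ _ _

include sq in
theorem hom_W_ext {Z : X.Etale} {a b : Z ⟶ E w} (h : a ≫ Em v w pV hV = b ≫ Em v w pV hV) :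
    a = b := by
  have hm : Mono pV := ⟨fun f g hfg => sq.hom_ext hfg ((cancel_mono u).1 (by
    rw [Category.assoc, Category.assoc, ← sq.w, ← Category.assoc, hfg, Category.assoc]))⟩
  apply MorphismProperty.Over.Hom.ext
  have h1 : a.left ≫ pV = b.left ≫ pV := congrArg (fun k => k.left) h
  exact (cancel_mono pV).1 h1

include sq in
theorem mono_Em : Mono (Em v w pV hV) where
  right_cancellation _ _ h := hom_W_ext sq hV h

end

/-- The two-element family. -/
noncomputable def fam (u : U ⟶ X) [IsOpenImmersion u] (v : V ⟶ X) [AlgebraicGeometry.Etale v]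
    (b : Bool) : X.Etale := cond b (E v) (E u)

theorem toTop_left (Z : X.Etale) : (toTop Z).left = Z.hom := by
  have h : (toTop Z).left ≫ (EtCoh.top X).hom = Z.hom := MorphismProperty.Over.w (toTop Z)
  exact (Category.comp_id _).symm.trans h

theorem fam_mem (h : IsIsoOver u v) :
    Sieve.generate (Presieve.ofArrows (fam u v) (fun b => toTop (fam u v b))) ∈
      X.smallEtaleTopology (EtCoh.top X) := by
  rw [Groth.Agent.Etbase.EtSite.mem_iff]
  intro x
  by_cases hx : (x : X) ∈ Set.range u
  · obtain ⟨y, hy⟩ := hx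
    refine ⟨E u, toTop (E u), y, ?_, ?_⟩
    · exact Sieve.le_generate _ _ _ (Presieve.ofArrows.mk (f := fun b => toTop (fam u v b)) false)
    · rw [toTop_left]; exact hy
  · obtain ⟨y, hy⟩ := h.surj x hx
    refine ⟨E v, toTop (E v), y, ?_, ?_⟩
    · exact Sieve.le_generate _ _ _ (Presieve.ofArrows.mk (f := fun b => toTop (fam u v b)) true)
    · rw [toTop_left]; exact hy

/-- the restriction of an étale scheme to the preimage of an open -/
theorem exists_restrict (Z : X.Etale) (z : Z.left) (hz : Z.hom z ∈ Set.range u) :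
    ∃ (Z' : X.Etale) (g : Z' ⟶ Z) (z' : Z'.left), g.left z' = z ∧ Nonempty (Z' ⟶ E u) := by
  obtain ⟨y, hy⟩ := hz
  obtain ⟨t, ht1, -⟩ := Scheme.Pullback.exists_preimage_pullback (f := Z.hom) (g := u) z y hy.symm
  have hZ : AlgebraicGeometry.Etale Z.hom := Z.prop
  exact ⟨Scheme.Etale.mk (pullback.fst Z.hom u ≫ Z.hom),
    MorphismProperty.Over.homMk (pullback.fst Z.hom u) rfl, t, ht1,
    ⟨MorphismProperty.Over.homMk (pullback.snd Z.hom u) (pullback.condition).symm⟩⟩

section

variable {pV : W ⟶ V} {pU : W ⟶ U} (sq : IsPullback pV pU v u) (hV : pV ≫ v = w)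
  (hU : pU ≫ u = w) (h : IsIsoOver u v)

include sq h in
/-- Two maps to `V` induce the same restriction of a section of `V` which extends over `U`. -/
theorem res_eq (F : EtCoh.Ab X)
    (s : EtCoh.sect F (E v)) (t : EtCoh.sect F (E u))
    (hst : res F (Em v w pV hV) s = res F (Em u w pU hU) t) (Z : X.Etale) (a b : Z ⟶ E v) :
    res F a s = res F b s := by
  apply Groth.Agent.Etbase.EtSite.sect_ext
  intro z
  by_cases hz : Z.hom z ∈ Set.range u
  · obtain ⟨Z', g, z', hz', ⟨c⟩⟩ := exists_restrict Z z hz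
    refine ⟨Z', g, z', hz', ?_⟩
    obtain ⟨k, hk1, hk2⟩ := exists_hom_W sq hV hU (g ≫ a) c
    obtain ⟨l, hl1, hl2⟩ := exists_hom_W sq hV hU (g ≫ b) c
    change res F g (res F a s) = res F g (res F b s)
    rw [res_res, res_res, ← hk1, ← hl1, ← res_res, ← res_res, hst, res_res, res_res, hk2, hl2]
  · obtain ⟨Z', g, z', hz', hg⟩ := h.loc Z a b z hz
    refine ⟨Z', g, z', hz', ?_⟩
    change res F g (res F a s) = res F g (res F b s)
    rw [res_res, res_res, hg]

include sq h in
/-- Gluing of sections. -/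
theorem glue (F : EtCoh.Ab X)
    (s : EtCoh.sect F (E v)) (t : EtCoh.sect F (E u))
    (hst : res F (Em v w pV hV) s = res F (Em u w pU hU) t) :
    ∃! r : EtCoh.sect F (EtCoh.top X), res F (toTop (E v)) r = s ∧ res F (toTop (E u)) r = t := by
  have hF : Presieve.IsSheaf X.smallEtaleTopology (F.obj ⋙ forget AddCommGrpCat.{u + 1}) :=
    (isSheaf_iff_isSheaf_of_type _ _).1
      ((Presheaf.isSheaf_iff_isSheaf_forget _ _ (forget AddCommGrpCat.{u + 1})).1 F.property)
  have h1 := (Presieve.isSheafFor_iff_generate _).2 (hF _ (fam_mem h))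
  rw [Presieve.isSheafFor_arrows_iff] at h1
  have aux : ∀ (Z : X.Etale) (a : Z ⟶ E v) (b : Z ⟶ E u), res F a s = res F b t := by
    intro Z a b
    obtain ⟨k, hk1, hk2⟩ := exists_hom_W sq hV hU a b
    rw [← hk1, ← hk2, ← res_res, ← res_res, hst]
  let x : ∀ b, (F.obj ⋙ forget AddCommGrpCat.{u + 1}).obj (op (fam u v b)) :=
    fun b => match b with
      | true => s
      | false => t
  obtain ⟨r, hr, hr'⟩ := h1 x (by
    intro i j Z gi gj _
    match i, j with
    | true, true => exact res_eq sq hV hU h F s t hst Z gi gj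
    | false, false => exact congrArg (fun k => res F k t) (hom_E_ext u gi gj)
    | true, false => exact aux Z gi gj
    | false, true => exact (aux Z gj gi).symm)
  refine ⟨r, ⟨hr true, hr false⟩, ?_⟩
  rintro r' ⟨h1, h2⟩
  apply hr'
  intro b
  match b with
  | true => exact h1
  | false => exact h2

/-- The Nisnevich Mayer-Vietoris square of free sheaves. -/
noncomputable def mvSq :
    Sq (EtCoh.const X ℤ) (ZE (E v)) (ZE (E u)) (ZE (E w)) where
  a := toConst (E v)
  b := toConst (E u)
  c := zmap (Em v w pV hV)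
  d := zmap (Em u w pU hU)
  w := by rw [zmap_toConst, zmap_toConst]
  inj {I} φ ψ h1 h2 := by
    apply hext (isGen_one X)
    have e1 := congrArg (fun k => app k (E v) (genE (E v))) h1
    have e2 := congrArg (fun k => app k (E u) (genE (E u))) h2
    rw [app_comp, app_comp, app_toConst, ← res_app, ← res_app] at e1 e2
    obtain ⟨r, -, hr⟩ := glue sq hV hU h I (res I (toTop (E v)) (app φ (EtCoh.top X) (one X)))
      (res I (toTop (E u)) (app φ (EtCoh.top X) (one X))) (by
        rw [res_res, res_res, (EtCore.topIsTerminal X).hom_ext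
          (Em v w pV hV ≫ toTop (E v)) (Em u w pU hU ≫ toTop (E u))])
    rw [hr _ ⟨rfl, rfl⟩, hr _ ⟨e1.symm, e2.symm⟩]
  ex {I} α β hab := by
    have e := congrArg (fun k => app k (E w) (genE (E w))) hab
    rw [app_comp, app_comp, app_zmap, app_zmap, ← res_app, ← res_app] at e
    obtain ⟨r, ⟨hr1, hr2⟩, -⟩ := glue sq hV hU h I (app α (E v) (genE (E v)))
      (app β (E u) (genE (E u))) e
    refine ⟨ofSec (isGen_one X) r, ?_, ?_⟩
    · apply hext (isGen_genE (E v))
      rw [app_comp, app_toConst, ← res_app, app_ofSec, hr1]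
    · apply hext (isGen_genE (E u))
      rw [app_comp, app_toConst, ← res_app, app_ofSec, hr2]
  mono := by
    have := mono_Em sq hV
    infer_instance

end

end Groth.Agent.Vancyc.H692.NisSq
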