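import Groth.Agent.Etcore.HpVia

/-!
# Diagram chase for the comparison of punctured schemes (plain schemes only)
-/

set_option autoImplicit false
universe u
open CategoryTheory CategoryTheory.Limits AlgebraicGeometry Opposite

namespace Groth.Agent.Vancyc.H692.PunctAbs

open Groth.Agent.Etcore.EtInst Groth.Agent.Etcore.HpullCalc Groth.Agent.Etcore.HpVia
open scoped Groth.Agent.Etcore.EtInst

theorem pfl {X Y : Scheme.{u}} (f : X ⟶ Y) : PreservesFiniteLimits (EtCoh.pull f) :=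
  Groth.Agent.S0101.result f

attribute [local instance 3000] pfl

variable {X U V W L A : Scheme.{u}} (u : U ⟶ X) (v : V ⟶ X) (w : W ⟶ X) (l : L ⟶ X) (q : A ⟶ X)
  (pV : W ⟶ V) (pU : W ⟶ U) (hV : pV ≫ v = w) (hU : pU ≫ u = w)
  (lam : L ⟶ V) (hlam : lam ≫ v = l) (f : A ⟶ L) (hf : f ≫ l = q) (a : A ⟶ U) (ha : a ≫ u = q)
  (mu : A ⟶ W) (hmuV : mu ≫ pV = f ≫ lam) (hmuU : mu ≫ pU = a) (hmu : mu ≫ w = q)
  (F : EtCoh.Ab X) (hF : ∀ n, Function.Bijective (hp l F n)) (n : ℕ)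

include hlam hf hmuV hmuU hF in
theorem exists_of_local (c : HH W ((EtCoh.pull w).obj F) n)
    (hex : ∃ d : HH X F (n + 1), hp v F (n + 1) d = 0 ∧ (d = 0 →
      ∃ (x : HH V ((EtCoh.pull v).obj F) n) (y : HH U ((EtCoh.pull u).obj F) n),
        c = hpVia pV v w hV F n x - hpVia pU u w hU F n y)) :
    ∃ b : HH U ((EtCoh.pull u).obj F) n, hpVia a u q ha F n b = hpVia mu w q hmu F n c := by
  obtain ⟨d, hd, hd'⟩ := hex
  have h0 : d = 0 := by
    apply (hF (n + 1)).1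
    rw [map_zero, ← hpVia_hp lam v l hlam F (n + 1) d, hd, map_zero]
  obtain ⟨x, y, hxy⟩ := hd' h0
  obtain ⟨e, he⟩ := (hF n).2 (hpVia lam v l hlam F n x)
  refine ⟨hp u F n e - y, ?_⟩
  have hk : (f ≫ lam) ≫ v = q := by rw [Category.assoc, hlam, hf]
  have h1 : hpVia mu w q hmu F n (hpVia pV v w hV F n x) = hp q F n e := by
    rw [hpVia_hpVia mu pV v (f ≫ lam) w q hmuV hV hmu hk F n x,
      ← hpVia_hpVia f lam v (f ≫ lam) l q rfl hlam hf hk F n x, ← he, hpVia_hp]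
  have h2 : hpVia mu w q hmu F n (hpVia pU u w hU F n y) = hpVia a u q ha F n y :=
    hpVia_hpVia mu pU u a w q hmuU hU hmu ha F n y
  rw [hxy, map_sub, map_sub, h1, h2, hpVia_hp]

include hlam hF in
theorem eq_zero_of_local (b : HH U ((EtCoh.pull u).obj F) n)
    (hex : ∃ e : HH X F n, hp v F n e = 0 ∧ hp u F n e = b) : b = 0 := by
  obtain ⟨e, he1, he2⟩ := hex
  have h0 : e = 0 := by
    apply (hF n).1
    rw [map_zero, ← hpVia_hp lam v l hlam F n e, he1, map_zero]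
  rw [← he2, h0, map_zero]

end Groth.Agent.Vancyc.H692.PunctAbs
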