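import Groth.Agent.Etcore.LimDeg0
import Groth.Agent.EtpbcB.StrictLoc

/-!
# The system of étale neighbourhoods, base changed along a morphism

All data of the limit presentation `U ×_X X_ξ = lim U ×_X V` packaged in one existential statement
(the proofs which use it see only opaque variables, this keeps the kernel fast).
-/

set_option autoImplicit false
universe u
open CategoryTheory CategoryTheory.Limits AlgebraicGeometry Opposite

namespace Groth.Agent.Vancyc.H692.PunctSys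

open Groth.Agent.Etcore.LimDeg0 Groth.Agent.EtpbcB Groth.Agent.EtpbcB.StrictLoc

variable {X U : Scheme.{u}} (f : U ⟶ X) [QuasiCompact f] [QuasiSeparated f]
  {Ω : Type u} [Field Ω] [IsSepClosed Ω] (ξ : Spec (CommRingCat.of Ω) ⟶ X) {XA : Scheme.{u}}
  {fA : XA ⟶ Spec (Osh ξ)} {a : XA ⟶ U} (h : IsPullback a fA f (toBase ξ))

/-- A presentation of `XA = U ×_X L`, `l : L ⟶ X`, as a limit of `U ×_X V i`, `V i ⟶ X` étale. -/
structure Sys {X U : Scheme.{u}} (f : U ⟶ X) {L : Scheme.{u}} (l : L ⟶ X) {XA : Scheme.{u}}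
    (fA : XA ⟶ L) (a : XA ⟶ U) where
  I : Type u
  [cat : SmallCategory I]
  [cof : IsCofiltered I]
  D : I ⥤ Scheme.{u}
  [aff : ∀ {i j : I} (g : i ⟶ j), IsAffineHom (D.map g)]
  [cpt : ∀ i, CompactSpace (D.obj i)]
  [qsp : ∀ i, QuasiSeparatedSpace (D.obj i)]
  p : ∀ i, XA ⟶ D.obj i
  hp : ∀ {i j : I} (g : i ⟶ j), p i ≫ D.map g = p j
  lim : IsLimit (coneOf p hp)
  tU : ∀ i, D.obj i ⟶ U
  map_tU : ∀ {i j : I} (g : i ⟶ j), D.map g ≫ tU j = tU i
  p_tU : ∀ i, p i ≫ tU i = a
  V : I → Scheme.{u}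
  v : ∀ i, V i ⟶ X
  [et : ∀ i, AlgebraicGeometry.Etale (v i)]
  prV : ∀ i, D.obj i ⟶ V i
  sq : ∀ i, IsPullback (prV i) (tU i) (v i) f
  lam : ∀ i, L ⟶ V i
  lam_v : ∀ i, lam i ≫ v i = l
  p_prV : ∀ i, p i ≫ prV i = fA ≫ lam i

include h in
/-- The system of affine étale neighbourhoods. -/
theorem exists_sys : Nonempty (Sys f (toBase ξ) fA a) :=
  ⟨{ I := Idx ξ
     D := DX ξ f
     p := fun i => legX ξ f h i
     hp := fun g => legX_map ξ f h g
     lim := isLimitConeX ξ f h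
     tU := fun i => ((EtCoh.bc f).obj ((D ξ).obj i)).hom
     map_tU := fun g => BCCalc.left_hom ((EtCoh.bc f).map ((D ξ).map g))
     p_tU := fun i => legX_hom ξ f h i
     V := fun i => ((D ξ).obj i).left
     v := fun i => ((D ξ).obj i).hom
     et := fun i => ((D ξ).obj i).prop
     prV := fun i => BCCalc.pr f ((D ξ).obj i)
     sq := fun i => BCCalc.isPullback_pr f ((D ξ).obj i)
     lam := fun i => leg ξ i
     lam_v := fun i => leg_hom ξ i
     p_prV := fun i => legX_pr ξ f h i }⟩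

end Groth.Agent.Vancyc.H692.PunctSys
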