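import Groth.Agent.Etcore.LimEt
import Groth.Agent.Vancyc.H692.PunctSys

/-!
# The limit theorem for the inverse image of an `X`-scheme in a strict localization
-/

set_option autoImplicit false
universe u
open CategoryTheory CategoryTheory.Limits AlgebraicGeometry Opposite

namespace Groth.Agent.Vancyc.H692.PunctLim

open Groth.Agent.Etcore.EtInst Groth.Agent.Etcore.HpullCalc Groth.Agent.Etcore.LimDeg0
open Groth.Agent.Vancyc.H692.PunctSys
open scoped Groth.Agent.Etcore.EtInst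

theorem pfl {X Y : Scheme.{u}} (f : X ⟶ Y) : PreservesFiniteLimits (EtCoh.pull f) :=
  Groth.Agent.S0101.result f

attribute [local instance 3000] pfl

attribute [local instance] Sys.cat Sys.cof Sys.aff Sys.cpt Sys.qsp Sys.et

variable {X U L XA : Scheme.{u}} {f : U ⟶ X} {l : L ⟶ X} {fA : XA ⟶ L} {a : XA ⟶ U}
  (S : Sys f l fA a)

/-- The structure morphism to `X`. -/
noncomputable def tX (i : S.I) : S.D.obj i ⟶ X := S.tU i ≫ f

theorem p_tX (i : S.I) : S.p i ≫ tX S i = a ≫ f := by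
  rw [tX, ← Category.assoc, S.p_tU]

theorem map_tX {i j : S.I} (g : i ⟶ j) : S.D.map g ≫ tX S j = tX S i := by
  rw [tX, ← Category.assoc, S.map_tU, tX]

theorem exists_stage (F : EtCoh.Ab X) (n : ℕ) (c : HH XA ((EtCoh.pull (a ≫ f)).obj F) n) :
    ∃ (i : S.I) (x : HH (S.D.obj i) ((EtCoh.pull (tX S i)).obj F) n),
      hpVia (S.p i) (tX S i) (a ≫ f) (p_tX S i) F n x = c :=
  Groth.Agent.Etcore.LimEt.exists_hpVia_eq (D := S.D) S.p S.hp S.lim (tX S) (map_tX S) (p_tX S) F n c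

theorem exists_zero (F : EtCoh.Ab X) (n : ℕ) (i : S.I)
    (x : HH (S.D.obj i) ((EtCoh.pull (tX S i)).obj F) n)
    (hx : hpVia (S.p i) (tX S i) (a ≫ f) (p_tX S i) F n x = 0) :
    ∃ (k : S.I) (g : k ⟶ i), hp (S.D.map g) _ n x = 0 :=
  Groth.Agent.Etcore.LimEt.exists_hp_eq_zero (D := S.D) S.p S.hp S.lim (tX S) (map_tX S) (p_tX S)
    F n i x hx

end Groth.Agent.Vancyc.H692.PunctLim
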