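import Groth.Agent.Vancyc.H692.NiceNbhd
import Groth.Agent.Vancyc.H692.NisHp
import Groth.Agent.Vancyc.H692.PunctAbs
import Groth.Agent.Vancyc.H692.PunctLim

/-!
# Cohomology of a punctured scheme and of the punctured strict localization

`x₀` a closed point of `X` with separably closed residue field, `u : U ⟶ X` a quasi-compact open
immersion with range `X - {x₀}`, `l : Spec T ⟶ X` a limit of étale neighbourhoods of `x₀`
(`PunctSys.Sys`).  If `H^n(X, F) → H^n(Spec T, F)` is bijective for all `n`, then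
`H^n(U, F) → H^n(U ×_X Spec T, F)` is bijective for all `n`.
-/

set_option autoImplicit false
universe u
open CategoryTheory CategoryTheory.Limits AlgebraicGeometry Opposite

namespace Groth.Agent.Vancyc.H692.PunctMain

open Groth.Agent.Etcore.EtInst Groth.Agent.Etcore.HpullCalc Groth.Agent.Etcore.HpVia
open Groth.Agent.Vancyc.H692.NisSq Groth.Agent.Vancyc.H692.PunctSys
open Groth.Agent.Vancyc.H692.PunctLim
open scoped Groth.Agent.Etcore.EtInst

theorem pfl {X Y : Scheme.{u}} (f : X ⟶ Y) : PreservesFiniteLimits (EtCoh.pull f) :=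
  Groth.Agent.S0101.result f

attribute [local instance 3000] pfl

attribute [local instance] Sys.cat Sys.cof Sys.aff Sys.cpt Sys.qsp Sys.et

variable {X U XA : Scheme.{u}} {T : Type u} [CommRing T] [IsLocalRing T]
  {u : U ⟶ X} [IsOpenImmersion u] {l : Spec (CommRingCat.of T) ⟶ X}
  {fA : XA ⟶ Spec (CommRingCat.of T)} {a : XA ⟶ U}
  (S : Sys u l fA a) (hsq : IsPullback a fA u l) (x₀ : X) (hx₀ : IsClosed ({x₀} : Set X))
  [IsSepClosed (X.residueField x₀)] (hu : Set.range u = {x₀}ᶜ)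
  (hl : l (IsLocalRing.closedPoint T) = x₀)

/-- The data attached to a nice étale neighbourhood. -/
structure Nice (i : S.I) where
  V : Scheme.{u}
  v : V ⟶ X
  [etv : AlgebraicGeometry.Etale v]
  W : Scheme.{u}
  w : W ⟶ X
  [etw : AlgebraicGeometry.Etale w]
  pV : W ⟶ V
  pU : W ⟶ U
  sq : IsPullback pV pU v u
  hV : pV ≫ v = w
  hU : pU ≫ u = w
  iso : IsIsoOver u v
  lam : Spec (CommRingCat.of T) ⟶ V
  hlam : lam ≫ v = l
  mu : XA ⟶ W
  hmuV : mu ≫ pV = fA ≫ lam
  hmuU : mu ≫ pU = a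
  hmu : mu ≫ w = a ≫ u
  m : W ⟶ S.D.obj i
  hmU : m ≫ S.tU i = pU
  hm : mu ≫ m = S.p i

include hsq hx₀ hu hl in
theorem exists_nice (i : S.I) : Nonempty (Nice S i) := by
  have h0 : S.v i (S.lam i (IsLocalRing.closedPoint T)) = x₀ :=
    (congrArg (fun k : Spec (CommRingCat.of T) ⟶ X => k (IsLocalRing.closedPoint T))
      (S.lam_v i)).trans hl
  obtain ⟨lam, hlam⟩ := NiceNbhd.exists_lift (S.v i) x₀ hx₀ _ (S.lam i) rfl
  have hiso := NiceNbhd.isIsoOver (S.v i) x₀ hx₀ _ h0 u hu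
  obtain ⟨V, k, hk, hlam, hiso⟩ : ∃ (V : Scheme.{u}) (k : V ⟶ S.V i),
      AlgebraicGeometry.Etale k ∧ (∃ lam : Spec (CommRingCat.of T) ⟶ V, lam ≫ k = S.lam i) ∧
      (∀ _ : AlgebraicGeometry.Etale (k ≫ S.v i), IsIsoOver u (k ≫ S.v i)) :=
    ⟨_, (NiceNbhd.O (S.v i) x₀ hx₀ _).ι, inferInstance, ⟨lam, hlam⟩, fun _ => hiso⟩
  obtain ⟨lam, hlam⟩ := hlam
  have hlv : lam ≫ k ≫ S.v i = l := by rw [← Category.assoc, hlam, S.lam_v]
  have hW : IsPullback (pullback.fst (k ≫ S.v i) u) (pullback.snd (k ≫ S.v i) u) (k ≫ S.v i) u :=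
    IsPullback.of_hasPullback _ _
  have hmw : (pullback.fst (k ≫ S.v i) u ≫ k) ≫ S.v i = pullback.snd (k ≫ S.v i) u ≫ u := by
    rw [Category.assoc, hW.w]
  have hmuw : (fA ≫ lam) ≫ k ≫ S.v i = a ≫ u := by rw [Category.assoc, hlv, hsq.w]
  refine ⟨{ V := V
            v := k ≫ S.v i
            W := pullback (k ≫ S.v i) u
            w := pullback.snd (k ≫ S.v i) u ≫ u
            pV := pullback.fst (k ≫ S.v i) u
            pU := pullback.snd (k ≫ S.v i) u
            sq := hW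
            hV := hW.w
            hU := rfl
            iso := hiso inferInstance
            lam := lam
            hlam := hlv
            mu := hW.lift (fA ≫ lam) a hmuw
            hmuV := hW.lift_fst _ _ _
            hmuU := hW.lift_snd _ _ _
            hmu := ?_
            m := (S.sq i).lift (pullback.fst (k ≫ S.v i) u ≫ k) (pullback.snd (k ≫ S.v i) u) hmw
            hmU := (S.sq i).lift_snd _ _ _
            hm := ?_ }⟩
  · rw [← Category.assoc, hW.lift_snd]
  · apply (S.sq i).hom_ext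
    · rw [Category.assoc, IsPullback.lift_fst, ← Category.assoc, hW.lift_fst, Category.assoc, hlam,
        S.p_prV]
    · rw [Category.assoc, IsPullback.lift_snd, hW.lift_snd, S.p_tU]

variable (F : EtCoh.Ab X) (hF : ∀ n, Function.Bijective (hp l F n)) (n : ℕ)

include hF in
omit [IsLocalRing T] in
theorem exists_of_nice {i : S.I} (N : Nice S i)
    (c : HH N.W ((EtCoh.pull N.w).obj F) n) :
    ∃ b : HH U ((EtCoh.pull u).obj F) n,
      hpVia a u (a ≫ u) rfl F n b = hpVia N.mu N.w (a ≫ u) N.hmu F n c := by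
  have := N.etv
  have := N.etw
  have w : fA ≫ l = a ≫ u := by
    rw [← N.hlam, ← Category.assoc, ← N.hmuV, Category.assoc, N.hV, N.hmu]
  exact PunctAbs.exists_of_local u N.v N.w l (a ≫ u) N.pV N.pU N.hV N.hU N.lam N.hlam fA w a rfl
    N.mu N.hmuV N.hmuU N.hmu F hF n c (NisHp.exact_right N.sq N.hV N.hU N.iso F n c)

include hF in
omit [IsLocalRing T] in
theorem eq_zero_of_nice {i : S.I} (N : Nice S i) (b : HH U ((EtCoh.pull u).obj F) n)
    (hb : hpVia N.pU u N.w N.hU F n b = 0) : b = 0 := by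
  have := N.etv
  have := N.etw
  exact PunctAbs.eq_zero_of_local u N.v l N.lam N.hlam F hF n b
    (NisHp.exact_mid N.sq N.hV N.hU N.iso F n 0 b (by rw [map_zero, hb]))

include S hsq hx₀ hu hl hF in
theorem surjective : Function.Surjective (hpVia a u (a ≫ u) rfl F n) := by
  intro c
  obtain ⟨i, x, hx⟩ := exists_stage S F n c
  obtain ⟨N⟩ := exists_nice S hsq x₀ hx₀ hu hl i
  have hw : N.m ≫ tX S i = N.w := by rw [tX, ← Category.assoc, N.hmU, N.hU]
  obtain ⟨b, hb⟩ := exists_of_nice S F hF n N (hpVia N.m (tX S i) N.w hw F n x)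
  refine ⟨b, hb.trans ?_⟩
  rw [hpVia_hpVia N.mu N.m (tX S i) (S.p i) N.w (a ≫ u) N.hm hw N.hmu (p_tX S i) F n x, hx]

include S hsq hx₀ hu hl hF in
theorem injective : Function.Injective (hpVia a u (a ≫ u) rfl F n) := by
  rw [injective_iff_map_eq_zero]
  intro b hb
  obtain ⟨i⟩ : Nonempty S.I := IsCofiltered.nonempty
  have h1 : hpVia (S.p i) (tX S i) (a ≫ u) (p_tX S i) F n
      (hpVia (S.tU i) u (tX S i) rfl F n b) = 0 := by
    rw [hpVia_hpVia (S.p i) (S.tU i) u a (tX S i) (a ≫ u) (S.p_tU i) rfl (p_tX S i) rfl F n b, hb]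
  obtain ⟨k, g, hk⟩ := exists_zero S F n i _ h1
  have h2 : hpVia (S.D.map g) (tX S i) (tX S k) (map_tX S g) F n
      (hpVia (S.tU i) u (tX S i) rfl F n b) = 0 := by
    rw [hpVia_eq, hk, map_zero]
  rw [hpVia_hpVia (S.D.map g) (S.tU i) u (S.tU k) (tX S i) (tX S k) (S.map_tU g) rfl (map_tX S g)
    rfl F n b] at h2
  obtain ⟨N⟩ := exists_nice S hsq x₀ hx₀ hu hl k
  have hw : N.m ≫ tX S k = N.w := by rw [tX, ← Category.assoc, N.hmU, N.hU]
  apply eq_zero_of_nice S F hF n N
  rw [← hpVia_hpVia N.m (S.tU k) u N.pU (tX S k) N.w N.hmU rfl hw N.hU F n b, h2, map_zero]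

include S hsq hx₀ hu hl hF in
/-- Restriction from the punctured scheme to the punctured strict localization is bijective. -/
theorem bijective : Function.Bijective (hpVia a u (a ≫ u) rfl F n) :=
  ⟨injective S hsq x₀ hx₀ hu hl F hF n, surjective S hsq x₀ hx₀ hu hl F hF n⟩

end Groth.Agent.Vancyc.H692.PunctMain
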