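import Groth.Agent.Vancyc.H692.PunctMain
import Groth.Agent.S0620
import Groth.Agent.Sga4B.StrictHensTools
import Groth.Agent.Sga4A.HensClosed2
import Groth.Agent.Etcore.HpVia
import Groth.Agent.Etcore.HpullEq


/-!
# Punctured strict localizations: `H^n(X - x₀, F) = H^n(Spec R - closed point, F)`

`R` a henselization of the local ring of `X` at a point `x₀` with algebraically closed residue
field `k`, `F` a sheaf with `H^n(X, F) = H^n(x₀, F)`.
-/

set_option autoImplicit false
universe u
open CategoryTheory CategoryTheory.Limits AlgebraicGeometry Opposite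

namespace Groth.Agent.Vancyc.H692.PunctStalk

open Groth.Agent.Etcore.HpullCalc Groth.Agent.Etcore.HpVia
open Groth.Agent.Vancyc.H692.PunctSys

attribute [local instance 3000] PunctMain.pfl

/-- The limit presentation of `U ×_X Spec R`, `R` a strict henselization. -/
theorem exists_sys_specOf (X : Scheme.{u}) (x : X) (R : Type u) [CommRing R] [IsLocalRing R]
    [Algebra (X.presheaf.stalk x) R] [IsLocalHom (algebraMap (X.presheaf.stalk x) R)]
    [Hensel.IsStrictHenselization (X.presheaf.stalk x) R]
    [IsSepClosed (IsLocalRing.ResidueField R)]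
    {U : Scheme.{u}} (f : U ⟶ X) [QuasiCompact f] [QuasiSeparated f]
    {XA : Scheme.{u}} {fA : XA ⟶ Spec (CommRingCat.of R)} {a : XA ⟶ U}
    (h : IsPullback a fA f (Hens2.specOf X x R)) :
    Nonempty (Sys f (Hens2.specOf X x R) fA a) := by
  obtain ⟨e, he, he'⟩ := Groth.Agent.S0620.exists_iso X x R
  have h' : IsPullback a (fA ≫ e) f
      (Groth.Agent.EtpbcB.StrictLoc.toBase (Hens2.geomPt X x R)) :=
    IsPullback.of_iso h (Iso.refl _) (Iso.refl _)
      (asIso e) (Iso.refl _) (by simp) (by simp) (by simp) (by simp [he'])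
  obtain ⟨S⟩ := exists_sys f (Hens2.geomPt X x R) h'
  exact ⟨{ I := S.I
           cat := S.cat
           cof := S.cof
           D := S.D
           aff := S.aff
           cpt := S.cpt
           qsp := S.qsp
           p := S.p
           hp := S.hp
           lim := S.lim
           tU := S.tU
           map_tU := S.map_tU
           p_tU := S.p_tU
           V := S.V
           v := S.v
           et := S.et
           prV := S.prV
           sq := S.sq
           lam := fun i => e ≫ S.lam i
           lam_v := fun i => by rw [Category.assoc, S.lam_v, he']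
           p_prV := fun i => by rw [S.p_prV, Category.assoc] }⟩

theorem specOf_closedPoint (X : Scheme.{u}) (x : X) (R : Type u) [CommRing R] [IsLocalRing R]
    [Algebra (X.presheaf.stalk x) R] [IsLocalHom (algebraMap (X.presheaf.stalk x) R)] :
    Hens2.specOf X x R (IsLocalRing.closedPoint R) = x := by
  rw [Hens2.specOf, Scheme.Hom.comp_apply]
  have h1 : Spec.map (CommRingCat.ofHom (algebraMap (X.presheaf.stalk x) R))
      (IsLocalRing.closedPoint R) = IsLocalRing.closedPoint (X.presheaf.stalk x) :=
    IsLocalRing.comap_closedPoint (algebraMap (X.presheaf.stalk x) R)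
  rw [h1, Scheme.fromSpecStalk_closedPoint]

/-- Cohomology of a henselian local scheme is cohomology of its closed point. -/
theorem hp_bijective_of_surjective (R : Type u) [CommRing R] [HenselianLocalRing R] (K : Type u)
    [Field K] (φ : R →+* K) (hφ : Function.Surjective φ) (G : EtCoh.Ab (Spec (CommRingCat.of R)))
    (n : ℕ) : Function.Bijective (hp (Spec.map (CommRingCat.ofHom φ)) G n) := by
  have hker : RingHom.ker φ = IsLocalRing.maximalIdeal R :=
    IsLocalRing.eq_maximalIdeal (RingHom.ker_isMaximal_of_surjective φ hφ)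
  let e : IsLocalRing.ResidueField R ≃+* K :=
    (Ideal.quotEquivOfEq hker.symm).trans (RingHom.quotientKerEquivOfSurjective hφ)
  have he : (e : IsLocalRing.ResidueField R →+* K).comp (IsLocalRing.residue R) = φ := by
    ext x
    rfl
  have h1 : Spec.map (CommRingCat.ofHom φ) =
      Spec.map (CommRingCat.ofHom (e : IsLocalRing.ResidueField R →+* K)) ≫
        Spec.map (CommRingCat.ofHom (IsLocalRing.residue R)) := by
    rw [← Spec.map_comp, ← CommRingCat.ofHom_comp, he]
  have h2 : IsIso (Spec.map (CommRingCat.ofHom (e : IsLocalRing.ResidueField R →+* K))) := by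
    have : IsIso (CommRingCat.ofHom (e : IsLocalRing.ResidueField R →+* K)) :=
      (ConcreteCategory.isIso_iff_bijective _).2 e.bijective
    infer_instance
  rw [h1]
  exact (bijective_hp_comp _ _ _ _
    ((bijective_Hpull_iff _ _ _).1 (Groth.Agent.Sga4A.HensClosed.Hpull_bijective R G n))).2
      (hp_bijective_of_isIso _ _ _)

section Point

variable {X : Scheme.{u}} {k : Type u} [Field k] (g0 : Spec (CommRingCat.of k) ⟶ X)
  [SurjectiveOnStalks g0] (x : X) (hx : g0 (IsLocalRing.closedPoint k) = x)

include hx in
theorem exists_surjective_stalk_hom : ∃ φ : X.presheaf.stalk x →+* k, IsLocalHom φ ∧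
    Function.Surjective φ ∧ Spec.map (CommRingCat.ofHom φ) ≫ X.fromSpecStalk x = g0 := by
  subst hx
  refine ⟨(Scheme.stalkClosedPointTo g0).hom, inferInstance, ?_,
    Scheme.Spec_stalkClosedPointTo_fromSpecStalk g0⟩
  have h1 := g0.stalkMap_surjective (IsLocalRing.closedPoint k)
  have h2 : Function.Surjective (stalkClosedPointIso (CommRingCat.of k)).hom :=
    (ConcreteCategory.bijective_of_isIso _).2
  exact h2.comp h1

include g0 hx in
theorem isSepClosed_residueField [IsSepClosed k] : IsSepClosed (X.residueField x) := by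
  obtain ⟨φ, -, hφ, -⟩ := exists_surjective_stalk_hom g0 x hx
  have hker : RingHom.ker φ = IsLocalRing.maximalIdeal (X.presheaf.stalk x) :=
    IsLocalRing.eq_maximalIdeal (RingHom.ker_isMaximal_of_surjective φ hφ)
  let e : k ≃+* X.residueField x :=
    ((Ideal.quotEquivOfEq hker.symm).trans (RingHom.quotientKerEquivOfSurjective hφ)).symm
  exact Groth.Agent.Hensel.Exist.isSepClosed_of_ringEquiv e.symm

variable (R : Type u) [CommRing R] [IsLocalRing R]
    [Algebra (X.presheaf.stalk x) R] [IsLocalHom (algebraMap (X.presheaf.stalk x) R)]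
    [Hensel.IsHenselization (X.presheaf.stalk x) R]

include g0 hx in
theorem isSepClosed_residueField_hens [IsSepClosed k] :
    IsSepClosed (IsLocalRing.ResidueField R) := by
  have h1 := isSepClosed_residueField g0 x hx
  have h2 : IsSepClosed (IsLocalRing.ResidueField (X.presheaf.stalk x)) := h1
  exact Groth.Agent.Hensel.Exist.isSepClosed_of_ringEquiv
    (RingEquiv.ofBijective _
      (Groth.Agent.Hensel.Exist.residueField_bijective_of_isHenselization
        (X.presheaf.stalk x) R)).symm

include g0 hx in
theorem hp_specOf_bijective (F : EtCoh.Ab X) (h0 : ∀ n, Function.Bijective (hp g0 F n)) (n : ℕ) :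
    Function.Bijective (hp (Hens2.specOf X x R) F n) := by
  have hh : HenselianLocalRing R := Hensel.IsHenselization.henselian (X.presheaf.stalk x)
  obtain ⟨φ, hφ1, hφ2, hφ⟩ := exists_surjective_stalk_hom g0 x hx
  obtain ⟨g, hg, -⟩ := Hensel.IsHenselization.universal (R := X.presheaf.stalk x) (S := R) k φ hφ1
  have hgs : Function.Surjective g := by
    have : Function.Surjective (g.comp (algebraMap (X.presheaf.stalk x) R)) := by
      rw [hg]
      exact hφ2
    exact Function.Surjective.of_comp this
  have hc : Spec.map (CommRingCat.ofHom g) ≫ Hens2.specOf X x R = g0 := by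
    rw [Hens2.specOf, ← Category.assoc, ← Spec.map_comp, ← CommRingCat.ofHom_comp, hg, hφ]
  have h1 := (bijective_hpVia_iff (Spec.map (CommRingCat.ofHom g)) (Hens2.specOf X x R) g0 hc
    F n).2 (hp_bijective_of_surjective R k g hgs _ n)
  have h2 : ⇑(hp g0 F n) = ⇑(hpVia (Spec.map (CommRingCat.ofHom g)) (Hens2.specOf X x R) g0 hc
      F n) ∘ ⇑(hp (Hens2.specOf X x R) F n) :=
    funext fun y => (hpVia_hp _ _ _ hc F n y).symm
  have h3 := h0 n
  rw [h2] at h3
  exact (Function.Bijective.of_comp_iff' h1 _).1 h3

include g0 hx in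
/-- `x` a closed point of `X` with separably closed residue field `k`, `R` a henselization of the
local ring, `F` a sheaf on `X` with `H^n(X, F) = H^n(x, F)`, `U = X - x`: then
`H^n(U, F) = H^n(U ×_X Spec R, F)`. -/
theorem bijective_hp [IsSepClosed k] (F : EtCoh.Ab X) (h0 : ∀ n, Function.Bijective (hp g0 F n))
    (hcl : IsClosed ({x} : Set X)) {U : Scheme.{u}} (u : U ⟶ X) [IsOpenImmersion u]
    [QuasiCompact u] (hu : Set.range u = {x}ᶜ) {XA : Scheme.{u}} (a : XA ⟶ U)
    (fA : XA ⟶ Spec (CommRingCat.of R)) (hsq : IsPullback a fA u (Hens2.specOf X x R)) (n : ℕ) :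
    Function.Bijective (hp a ((EtCoh.pull u).obj F) n) := by
  have i1 := isSepClosed_residueField g0 x hx
  have i2 := isSepClosed_residueField_hens g0 x hx R
  have i3 : Hensel.IsStrictHenselization (X.presheaf.stalk x) R :=
    Groth.Agent.Sga4B.StrictHensTools.isStrictHenselization_of_isHenselization _ _
  obtain ⟨S⟩ := exists_sys_specOf X x R u hsq
  rw [← bijective_hpVia_iff a u (a ≫ u) rfl F n]
  exact PunctMain.bijective S hsq x hcl hu (specOf_closedPoint X x R) F
    (fun n => hp_specOf_bijective g0 x hx R F h0 n) n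

end Point

end Groth.Agent.Vancyc.H692.PunctStalk
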