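import Groth.Agent.Vancyc.H684.Kummer

/-!
# Actions by signs of the inertia group of a strictly henselian trait, `2` invertible

`R` a strictly henselian discrete valuation ring with fraction field `K`, `Ω` a separable closure
of `K`, `t` a uniformiser, `2` invertible in `R`.  If `Gal(Ω/K)` acts on an abelian group `M` by
signs and continuously (every element is fixed by an open subgroup), then every `σ` fixing the
square roots of `t` acts trivially.
-/

set_option autoImplicit false
universe u

namespace Groth.Agent.Vancyc.H692.QuadMono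

variable (R K Ω : Type u) [CommRing R] [IsDomain R] [IsDiscreteValuationRing R]
  (hR : EtCoh.IsStrictlyHenselianLocalRing R) [Field K] [Algebra R K] [IsFractionRing R K]
  [Field Ω] [Algebra K Ω] [IsSepClosure K Ω] [Algebra R Ω] [IsScalarTower R K Ω]

omit [Algebra R K] [Algebra R Ω] [IsScalarTower R K Ω] in
/-- if `quadChar t σ = 1` then `σ` fixes a square root of `t` (`2` invertible). -/
theorem fixesRoot_two (t : K) (h2 : (2 : K) ≠ 0) (σ : Ω ≃ₐ[K] Ω)
    (hσ : VanCyc.quadChar t σ = 1) : VanCyc.FixesRoot 2 t σ := by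
  have hΩ : IsSepClosed Ω := IsSepClosure.sep_closed K
  have h2Ω : (2 : Ω) ≠ 0 := by
    have := (map_ne_zero (algebraMap K Ω)).2 h2
    rwa [map_ofNat] at this
  have : NeZero ((2 : ℕ) : Ω) := ⟨by exact_mod_cast h2Ω⟩
  obtain ⟨r, hr⟩ := IsSepClosed.exists_pow_nat_eq (algebraMap K Ω t) 2
  refine ⟨r, hr, ?_⟩
  unfold VanCyc.quadChar at hσ
  split_ifs at hσ with h
  exact h r (by rw [← pow_two, hr])

include hR in
/-- Continuous actions by signs are trivial on the automorphisms fixing the square roots of a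
uniformiser. -/
theorem eq_self_of_sign {M : Type*} [AddCommGroup M] (act : (Ω ≃ₐ[K] Ω) → M → M)
    (hmul : ∀ σ τ x, act (σ * τ) x = act σ (act τ x))
    (hsign : ∀ σ, ∃ ε : ℤ, (ε = 1 ∨ ε = -1) ∧ ∀ x, act σ x = ε • x)
    (hcont : ∀ x : M, ∃ L : IntermediateField K Ω, FiniteDimensional K L ∧
      ∀ σ ∈ L.fixingSubgroup, act σ x = x)
    (h2 : IsUnit (2 : R)) {t : R} (ht : Irreducible t) (σ : Ω ≃ₐ[K] Ω)
    (hσ : VanCyc.quadChar (algebraMap R K t) σ = 1) (x : M) : act σ x = x := by
  by_cases hx : ∀ y : M, -y = y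
  · obtain ⟨ε, hε, h⟩ := hsign σ
    rw [h]
    rcases hε with rfl | rfl
    · rw [one_zsmul]
    · rw [neg_one_zsmul, hx]
  push Not at hx
  obtain ⟨y, hy⟩ := hx
  have h2K : (2 : K) ≠ 0 := by
    have h3 := (h2.map (algebraMap R K)).ne_zero
    rwa [map_ofNat] at h3
  have h1 : (1 : K) ≠ -1 := by
    intro h
    apply h2K
    linear_combination h
  choose ε hε hact using hsign
  have hy1 : ∀ g, ε g • y = y → ε g = 1 := by
    intro g hg
    rcases hε g with h | h
    · exact h
    · rw [h, neg_one_zsmul] at hg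
      exact absurd hg hy
  have huniq : ∀ a b : ℤ, (a = 1 ∨ a = -1) → (b = 1 ∨ b = -1) → a • y = b • y → a = b := by
    rintro a b (rfl | rfl) (rfl | rfl) h
    · rfl
    · rw [one_zsmul, neg_one_zsmul] at h
      exact absurd h.symm hy
    · rw [one_zsmul, neg_one_zsmul] at h
      exact absurd h hy
    · rfl
  have hεmul : ∀ g h, ε (g * h) = ε g * ε h := by
    intro g h
    apply huniq _ _ (hε _)
    · rcases hε g with h1 | h1 <;> rcases hε h with h2 | h2 <;> simp [h1, h2]
    · rw [← hact, hmul, hact h, hact g, mul_smul]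
  let sg : ℤ → Kˣ := fun a => if a = 1 then 1 else -1
  let ψ : (Ω ≃ₐ[K] Ω) →* Kˣ := MonoidHom.mk' (fun g => sg (ε g)) (by
    intro g h
    simp only [sg]
    rw [hεmul]
    rcases hε g with h1 | h1 <;> rcases hε h with h2 | h2 <;> simp [h1, h2])
  obtain ⟨L, hL, hfix⟩ := hcont y
  have hψσ := Groth.Agent.Vancyc.H684.Kummer.char_apply_eq_one R K Ω hR 2
    (by exact_mod_cast h2) ht ψ (by
      intro g
      change sg (ε g) ^ 2 = 1
      simp only [sg]
      split_ifs <;> simp) L (by
      intro g hg
      change sg (ε g) = 1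
      have : ε g = 1 := hy1 g (by rw [← hact, hfix g hg])
      simp [sg, this]) σ (fixesRoot_two K Ω _ h2K σ hσ)
  have hσ1 : ε σ = 1 := by
    rcases hε σ with h | h
    · exact h
    · exfalso
      have h3 : sg (ε σ) = 1 := hψσ
      rw [h] at h3
      have h4 : (-1 : Kˣ) = 1 := by simpa [sg] using h3
      apply h1
      have := congrArg (fun v : Kˣ => (v : K)) h4
      simpa using this.symm
  rw [hact, hσ1, one_zsmul]

end Groth.Agent.Vancyc.H692.QuadMono
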